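import Groth.Agent.GalTw.Basic
import Groth.Prelude.Def_TwC
import Mathlib

/-! Base change of constant schemes and of quasi-isotrivial twisted constant schemes. -/

set_option autoImplicit false
universe u

open CategoryTheory CategoryTheory.Limits AlgebraicGeometry

namespace Groth.Agent.TwLocLib

set_option backward.isDefEq.respectTransparency false
set_option backward.isDefEq.respectTransparency.types false

open GalTw

/-- The canonical square of constant schemes is cartesian. -/
theorem isPullback_cst {U T : Scheme.{u}} (h : T ⟶ U) (I : Type u) :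
    IsPullback (Sigma.desc fun i : I => h ≫ Sigma.ι (fun _ : I => U) i) (cstHom T I) (cstHom U I) h := by
  let p := cstHom U I
  let σ : I → (T ⟶ pullback p h) := fun i =>
    pullback.lift (h ≫ Sigma.ι (fun _ : I => U) i) (𝟙 T)
      (by rw [Category.assoc, ι_cstHom, Category.comp_id, Category.id_comp])
  have hσ : ∀ i, σ i ≫ pullback.snd p h = 𝟙 T := fun i => pullback.lift_snd _ _ _
  have : ∀ i, IsOpenImmersion (σ i) := fun i => by
    have : Etale (σ i ≫ pullback.snd p h) := by rw [hσ]; infer_instance
    have : Etale (σ i) := Etale.of_comp _ (pullback.snd p h)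
    have : IsSplitMono (σ i) := ⟨⟨⟨pullback.snd p h, hσ i⟩⟩⟩
    exact IsOpenImmersion.of_flat_of_mono _
  have hfst : ∀ i (t : T), pullback.fst p h (σ i t) = Sigma.ι (fun _ : I => U) i (h t) := fun i t => by
    rw [← Scheme.Hom.comp_apply, pullback.lift_fst]; rfl
  have : IsOpenImmersion (Sigma.desc σ) := isOpenImmersion_sigmaDesc _ σ fun i j hij =>
    Set.disjoint_left.2 (by
      rintro z ⟨x, hx⟩ ⟨y, hy⟩
      refine hij (ι_inj (y := h x) (y' := h y) ?_)
      rw [← hfst, ← hfst, hx, hy])
  have : IsIso (Sigma.desc σ) := isIso_of_isOpenImmersion_of_opensRange_eq_top _ (top_unique fun z _ => by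
    obtain ⟨i, w, hw⟩ := exists_eq_ι (pullback.fst p h z)
    obtain ⟨t, ht, -⟩ := Scheme.Pullback.exists_preimage_pullback
      (f := pullback.fst p h) (g := Sigma.ι (fun _ : I => U) i) z w hw.symm
    refine ⟨(pullback.fst (pullback.fst p h) (Sigma.ι (fun _ : I => U) i) ≫ pullback.snd p h ≫
      Sigma.ι (fun _ : I => T) i) t, ?_⟩
    rw [← ht, ← Scheme.Hom.comp_apply]
    refine congrArg (fun k : pullback (pullback.fst p h) (Sigma.ι (fun _ : I => U) i) ⟶ pullback p h => k t) ?_
    have hd : pullback.snd (pullback.fst p h) (Sigma.ι (fun _ : I => U) i) =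
        pullback.fst (pullback.fst p h) (Sigma.ι (fun _ : I => U) i) ≫ pullback.snd p h ≫ h := by
      have h1 := congrArg (· ≫ p) (pullback.condition (f := pullback.fst p h) (g := Sigma.ι (fun _ : I => U) i))
      simp only [Category.assoc, pullback.condition (f := p) (g := h), p, ι_cstHom, Category.comp_id] at h1
      exact h1.symm
    simp only [Category.assoc, Sigma.ι_desc]
    apply pullback.hom_ext
    · simp only [σ, Category.assoc, pullback.lift_fst]
      rw [pullback.condition, hd, Category.assoc, Category.assoc]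
    · rw [Category.assoc, Category.assoc, hσ, Category.comp_id])
  have h1 : Sigma.desc σ ≫ pullback.fst p h = Sigma.desc fun i : I => h ≫ Sigma.ι (fun _ : I => U) i :=
    Sigma.hom_ext _ _ fun i => by simp [σ]
  have h2 : Sigma.desc σ ≫ pullback.snd p h = cstHom T I :=
    Sigma.hom_ext _ _ fun i => by rw [ι_cstHom, Sigma.ι_desc_assoc, hσ]
  refine IsPullback.of_iso_pullback ⟨?_⟩ (asIso (Sigma.desc σ)) h1 h2
  rw [← h1, ← h2, Category.assoc, Category.assoc, pullback.condition]

/-- A constant scheme stays constant after base change. -/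
theorem bc_const {U T : Scheme.{u}} (h : T ⟶ U) (I : Type u) :
    Nonempty (Red.bc h (TwC.const U I) ≅ TwC.const T I) :=
  ⟨Over.isoMk (isPullback_cst h I).isoPullback.symm (isPullback_cst h I).isoPullback_inv_snd⟩

/-- A quasi-isotrivial twisted constant scheme stays so after base change. -/
theorem isTwConst_etale_bc {S T : Scheme.{u}} (g : T ⟶ S) {X : Over S}
    (hX : TwC.IsTwConst TwC.Topology.etale X) : TwC.IsTwConst TwC.Topology.etale (Red.bc g X) := by
  intro t
  obtain ⟨S', f, hf, ⟨s', hs'⟩, I, ⟨e⟩⟩ := hX (g t)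
  obtain ⟨x, hx, -⟩ := Scheme.Pullback.exists_preimage_pullback (f := g) (g := f) t s' hs'.symm
  obtain ⟨e'⟩ := bc_const (pullback.snd g f) I
  refine ⟨_, pullback.fst g f, inferInstance, ⟨x, hx⟩, I, ⟨?_⟩⟩
  exact (Over.pullbackComp (pullback.fst g f) g).symm.app X ≪≫
    eqToIso (congrArg (fun k : pullback g f ⟶ S => Red.bc k X) pullback.condition) ≪≫
    (Over.pullbackComp (pullback.snd g f) f).app X ≪≫ (Over.pullback _).mapIso e ≪≫ e'

end Groth.Agent.TwLocLib
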