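import Groth.Agent.TwLocLib.ConstBC
import Groth.Agent.EtFound.Descent
import Groth.Agent.H23.LocNoethTop
import Groth.Agent.MorLib.QFSplit
import Groth.Agent.FlatMisc.QfSlice
import Mathlib

/-! A twisted constant scheme trivialised by a finite flat cover with a single radicial point over a point
of a Noetherian base is constant near that point. -/

set_option autoImplicit false
universe u

open CategoryTheory CategoryTheory.Limits AlgebraicGeometry

namespace Groth.Agent.TwLocLib

set_option backward.isDefEq.respectTransparency false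
set_option backward.isDefEq.respectTransparency.types false

open GalTw

/-- Field valued points at a point with purely inseparable residue extension are determined by their image. -/
theorem eq_of_purelyInseparable {X Y : Scheme.{u}} (f : X ⟶ Y) {K : Type u} [Field K]
    (g₁ g₂ : Spec (CommRingCat.of K) ⟶ X) (hg : g₁ ≫ f = g₂ ≫ f)
    (hx : g₁ (IsLocalRing.closedPoint K) = g₂ (IsLocalRing.closedPoint K))
    (hf : (f.residueFieldMap (g₁ (IsLocalRing.closedPoint K))).hom.IsPurelyInseparable) : g₁ = g₂ := by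
  obtain ⟨e, h⟩ := Scheme.SpecToEquivOfField_eq_iff.mp congr((Y.SpecToEquivOfField K) $(hg))
  apply (X.SpecToEquivOfField K).injective
  dsimp [Scheme.SpecToEquivOfField] at e h
  try simp only [Scheme.descResidueField_stalkClosedPointTo_comp] at e h
  rw [← f.residueFieldMap_congr'_assoc hx, CommRingCat.hom_ext_iff] at h
  rw [Scheme.SpecToEquivOfField_eq_iff]
  algebraize [(f.residueFieldMap (g₁ (IsLocalRing.closedPoint K))).hom]
  exact ⟨hx, CommRingCat.hom_ext (IsPurelyInseparable.injective_comp_algebraMap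
    (Y.residueField (f (g₁ (IsLocalRing.closedPoint K)))) (X.residueField (g₁ (IsLocalRing.closedPoint K))) _ h)⟩

/-- Constancy near a point from a finite flat trivialisation with one radicial point over it. -/
theorem exists_const_nhd {U T : Scheme.{u}} [IsLocallyNoetherian U] [IsAffine U] (g : T ⟶ U)
    [IsFinite g] [Flat g] [LocallyOfFinitePresentation g] [Surjective g] (u : U)
    (huniq : ∀ a b : T, g a = u → g b = u → a = b)
    (hpi : ∀ (K : Type u) [Field K] (a b : Spec (CommRingCat.of K) ⟶ T), a ≫ g = b ≫ g →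
      g (a (IsLocalRing.closedPoint K)) = u → a = b)
    (X : Over U) {I : Type u} (e : Red.bc g X ≅ TwC.const T I) :
    ∃ O : U.Opens, u ∈ O ∧ Nonempty (Red.bc O.ι X ≅ TwC.const O I) := by
  let e₀ : pullback X.hom g ≅ cst T I := (Over.forget _).mapIso e
  have he₀ : e₀.hom ≫ cstHom T I = pullback.snd X.hom g := Over.w e.hom
  let R : cst T I ⟶ X.left := e₀.inv ≫ pullback.fst X.hom g
  have sqR : IsPullback R (cstHom T I) X.hom g :=
    IsPullback.of_iso (IsPullback.of_hasPullback X.hom g) e₀ (Iso.refl _) (Iso.refl _) (Iso.refl _)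
      (by simp [R]) (by simp [he₀]) (by simp) (by simp)
  have hQ : (@Surjective ⊓ @Flat ⊓ @QuasiCompact : MorphismProperty Scheme.{u}) g :=
    ⟨⟨inferInstance, inferInstance⟩, inferInstance⟩
  haveI := EtFound.fpqc_isSeparated.{u}
  haveI : Etale X.hom :=
    MorphismProperty.of_isPullback_of_descendsAlong (P := @Etale) sqR.flip hQ (inferInstanceAs (Etale (cstHom T I)))
  haveI : IsSeparated X.hom :=
    MorphismProperty.of_isPullback_of_descendsAlong (P := @IsSeparated) sqR.flip hQ
      (inferInstanceAs (IsSeparated (cstHom T I)))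
  let a : I → (T ⟶ X.left) := fun i => Sigma.ι (fun _ : I => T) i ≫ R
  have ha : ∀ i, a i ≫ X.hom = g := fun i => by
    simp only [a, Category.assoc, sqR.w]
    rw [← Category.assoc, ι_cstHom, Category.id_comp]
  -- the double cover and the component of its only point over `u`
  let P := pullback g g
  let q : P ⟶ U := pullback.fst g g ≫ g
  haveI : IsFinite q := inferInstance
  haveI : IsLocallyNoetherian P := LocallyOfFiniteType.isLocallyNoetherian q
  haveI : LocallyConnectedSpace P := H23.LocNoethTop.locallyConnectedSpace fun p => by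
    obtain ⟨W, hW, hpW, -⟩ := exists_isAffineOpen_mem_and_subset (U := ⊤) (x := p) (by trivial)
    haveI : IsNoetherianRing Γ(P, W) := IsLocallyNoetherian.component_noetherian ⟨W, hW⟩
    haveI : IsAffine (W : Scheme.{u}) := hW
    haveI : AlgebraicGeometry.IsNoetherian (W : Scheme.{u}) := { }
    exact ⟨W, W.2.mem_nhds hpW, inferInstanceAs (TopologicalSpace.NoetherianSpace (W : Scheme.{u}))⟩
  obtain ⟨v, hv⟩ := g.surjective u
  let z₀ : P := pullback.diagonal g v
  have hz : ∀ z : P, q z = u → z = z₀ := fun z hzu => by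
    let c := P.fromSpecResidueField z
    have hpt : c (IsLocalRing.closedPoint _) = z := Scheme.fromSpecResidueField_apply _ _
    have hab : c ≫ pullback.fst g g = c ≫ pullback.snd g g :=
      hpi _ _ _ (by rw [Category.assoc, Category.assoc, pullback.condition]) (by
        refine Eq.trans ?_ hzu
        show g (pullback.fst g g (c (IsLocalRing.closedPoint _))) = _
        exact congrArg (fun p => g (pullback.fst g g p)) hpt)
    have hc : c = (c ≫ pullback.fst g g) ≫ pullback.diagonal g := by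
      apply pullback.hom_ext
      · rw [Category.assoc, pullback.diagonal_fst, Category.comp_id]
      · rw [Category.assoc, pullback.diagonal_snd, Category.comp_id, hab]
    have h1 : z = pullback.diagonal g (pullback.fst g g z) := by
      refine hpt.symm.trans ((congrArg (fun m => m (IsLocalRing.closedPoint _)) hc).trans ?_)
      exact congrArg (fun p => pullback.diagonal g (pullback.fst g g p)) hpt
    rw [h1, huniq (pullback.fst g g z) v hzu hv]
  let C : P.Opens := ⟨connectedComponent z₀, isOpen_connectedComponent⟩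
  haveI : PreconnectedSpace (C : Scheme.{u}) := isPreconnected_iff_preconnectedSpace.1 isPreconnected_connectedComponent
  have hagree : ∀ i, C.ι ≫ pullback.fst g g ≫ a i = C.ι ≫ pullback.snd g g ≫ a i := fun i => by
    let D : T.Opens := pullback.diagonal g ⁻¹ᵁ C
    haveI : Nonempty (D : Scheme.{u}) := ⟨⟨v, mem_connectedComponent⟩⟩
    refine eq_of_agree _ _ ?_ ((pullback.diagonal g).resLE C D le_rfl) ?_
    · simp only [Category.assoc, ha, pullback.condition]
    · simp only [Scheme.Hom.resLE_comp_ι_assoc, pullback.diagonal_fst_assoc, pullback.diagonal_snd_assoc]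
  -- shrink the base
  have hcl : IsClosed (q '' ((C : Set P)ᶜ)) := q.isClosedMap _ C.2.isClosed_compl
  obtain ⟨O, hO, huO, hOC⟩ := exists_isAffineOpen_mem_and_subset (X := U) (x := u)
    (U := ⟨(q '' ((C : Set P)ᶜ))ᶜ, hcl.isOpen_compl⟩) (by
      rintro ⟨z, hzC, hzu⟩
      exact hzC (hz z hzu ▸ mem_connectedComponent))
  refine ⟨O, huO, ?_⟩
  let g' : (g ⁻¹ᵁ O : Scheme.{u}) ⟶ O := g ∣_ O
  let j := (g ⁻¹ᵁ O).ι
  have hj : j ≫ g = g' ≫ O.ι := (morphismRestrict_ι g O).symm
  haveI : IsAffine (O : Scheme.{u}) := hO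
  haveI : IsAffine (g ⁻¹ᵁ O : Scheme.{u}) := hO.preimage g
  haveI : Surjective g' := IsZariskiLocalAtTarget.restrict (P := @Surjective) ‹_› O
  haveI : Flat g' := IsZariskiLocalAtTarget.restrict (P := @Flat) ‹_› O
  haveI := isRegularEpi_of_flat_of_surjective_of_isAffine g'
  have hglue : ∀ (i : I) {Z : Scheme.{u}} (b₁ b₂ : Z ⟶ (g ⁻¹ᵁ O : Scheme.{u})), b₁ ≫ g' = b₂ ≫ g' →
      b₁ ≫ j ≫ a i = b₂ ≫ j ≫ a i := fun i Z b₁ b₂ hb => by
    let m : Z ⟶ P := pullback.lift (b₁ ≫ j) (b₂ ≫ j) (by
      rw [Category.assoc, Category.assoc, hj, reassoc_of% hb])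
    have hm : Set.range m ⊆ Set.range C.ι := by
      rw [Scheme.Opens.range_ι]
      rintro _ ⟨w, rfl⟩
      by_contra hw
      have h1 : q (m w) ∈ O := by
        rw [← Scheme.Hom.comp_apply, pullback.lift_fst_assoc, Category.assoc, hj]
        exact (g' (b₁ w)).2
      exact hOC h1 ⟨m w, hw, rfl⟩
    have h := congrArg (IsOpenImmersion.lift C.ι m hm ≫ ·) (hagree i)
    simp only [IsOpenImmersion.lift_fac_assoc, m, pullback.lift_fst_assoc, pullback.lift_snd_assoc, Category.assoc] at h
    exact h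
  let s : I → ((O : Scheme.{u}) ⟶ X.left) := fun i => EffectiveEpi.desc g' (j ≫ a i) (fun b₁ b₂ h => hglue i b₁ b₂ h)
  have hs : ∀ i, g' ≫ s i = j ≫ a i := fun i => EffectiveEpi.fac g' _ _
  have hsX : ∀ i, s i ≫ X.hom = O.ι := fun i => by
    rw [← cancel_epi g', reassoc_of% (hs i), ha, hj]
  let c : cst (O : Scheme.{u}) I ⟶ pullback X.hom O.ι :=
    Sigma.desc fun i => pullback.lift (s i) (𝟙 _) (by rw [hsX, Category.id_comp])
  have hc₁ : c ≫ pullback.fst X.hom O.ι = Sigma.desc s := Sigma.hom_ext _ _ fun i => by simp [c]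
  have hc₂ : c ≫ pullback.snd X.hom O.ι = cstHom O I :=
    Sigma.hom_ext _ _ fun i => by rw [ι_cstHom]; simp [c]
  let M : cst (g ⁻¹ᵁ O : Scheme.{u}) I ⟶ cst (O : Scheme.{u}) I :=
    Sigma.desc fun i => g' ≫ Sigma.ι (fun _ : I => (O : Scheme.{u})) i
  have hM : IsPullback M (cstHom _ I) (cstHom _ I) g' := isPullback_cst g' I
  have hbig := (isPullback_cst j I).paste_horiz sqR
  rw [hj] at hbig
  have hMc : (M ≫ c) ≫ pullback.fst X.hom O.ι = (Sigma.desc fun i => j ≫ Sigma.ι (fun _ : I => T) i) ≫ R := by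
    rw [Category.assoc, hc₁]
    exact Sigma.hom_ext _ _ fun i => by simp [M, hs, a]
  rw [← hMc] at hbig
  have hMc₂ : (M ≫ c) ≫ pullback.snd X.hom O.ι = cstHom _ I ≫ g' := by
    rw [Category.assoc, hc₂, hM.w]
  have hmid : IsPullback (M ≫ c) (cstHom _ I) (pullback.snd X.hom O.ι) g' :=
    IsPullback.of_right hbig hMc₂ (IsPullback.of_hasPullback X.hom O.ι)
  -- the base change of `c` along a cover is an isomorphism
  have hid : IsPullback (𝟙 (cst (g ⁻¹ᵁ O : Scheme.{u}) I)) M (M ≫ c) c :=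
    (IsPullback.of_bot (v₂₁ := cstHom _ I) (v₂₂ := pullback.snd X.hom O.ι) (h₁₁ := M) (h₂₁ := M ≫ c)
      (by rw [Category.id_comp, hc₂]; exact hM) (by simp) hmid).flip
  haveI : QuasiCompact g' := inferInstance
  have hQ' : (@Surjective ⊓ @Flat ⊓ @QuasiCompact : MorphismProperty Scheme.{u}) (M ≫ c) :=
    ⟨⟨MorphismProperty.of_isPullback (P := @Surjective) hmid.flip ‹_›,
      MorphismProperty.of_isPullback (P := @Flat) hmid.flip ‹_›⟩,
      MorphismProperty.of_isPullback (P := @QuasiCompact) hmid.flip ‹_›⟩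
  haveI : IsIso c := MorphismProperty.of_isPullback_of_descendsAlong (P := MorphismProperty.isomorphisms Scheme.{u})
    hid hQ' (inferInstanceAs (IsIso (𝟙 _)))
  exact ⟨(Over.isoMk (asIso c) hc₂ : TwC.const (O : Scheme.{u}) I ≅ Red.bc O.ι X).symm⟩

/-- Twisted constant schemes for the flat topology over a locally Noetherian base are quasi-isotrivial. -/
theorem isTwConst_etale_of_fppf {S : Scheme.{u}} [IsLocallyNoetherian S] {X : Over S}
    (hX : TwC.IsTwConst TwC.Topology.fppf X) : TwC.IsTwConst TwC.Topology.etale X := by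
  intro s
  obtain ⟨S', f, hf₁, hf₂, ⟨x', hx'⟩, I, ⟨e⟩⟩ := hX s
  obtain ⟨S'', h, hS'', hk₁, hk₂, hk₃, x, hx⟩ := FlatMisc.QfSlice.exists_slice f x'
  rw [hx'] at hx
  let k := h ≫ f
  haveI : IsSeparated k := by
    haveI : IsSeparated (k ≫ terminal.from S) := by
      rw [terminal.comp_from]; infer_instance
    exact IsSeparated.of_comp k (terminal.from S)
  obtain ⟨U, g, u, hg, hgu, J, -, V, v, hclop, -, hpiece, hex⟩ :=
    MorLib.WT.exists_split k s (ι := Unit) (fun _ => x) (fun _ _ _ => rfl) (fun _ => hx) (fun _ => k.quasiFiniteAt x)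
  obtain ⟨w, hw₁, hw₂⟩ := Scheme.Pullback.exists_preimage_pullback (f := k) (g := g) x u (hx.trans hgu.symm)
  obtain ⟨j, -⟩ := hex w () hw₂ hw₁
  obtain ⟨hvV, hfin, hvu, huniq, hpins, -⟩ := hpiece () j
  let W₀ := V () j
  let π : (W₀ : Scheme.{u}) ⟶ U := W₀.ι ≫ pullback.snd k g
  haveI := hfin
  haveI : Flat π := inferInstance
  haveI : LocallyOfFinitePresentation π := inferInstance
  haveI : IsLocallyNoetherian U := LocallyOfFiniteType.isLocallyNoetherian g
  obtain ⟨W, hW, huW, hWsub⟩ := exists_isAffineOpen_mem_and_subset (X := U) (x := u)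
    (U := ⟨Set.range π, π.isOpenMap.isOpen_range⟩) ⟨⟨v () j, hvV⟩, hvu⟩
  haveI : IsAffine (W : Scheme.{u}) := hW
  let g₁ : (π ⁻¹ᵁ W : Scheme.{u}) ⟶ W := π ∣_ W
  haveI : IsFinite g₁ := IsZariskiLocalAtTarget.restrict (P := @IsFinite) ‹_› W
  haveI : Flat g₁ := IsZariskiLocalAtTarget.restrict (P := @Flat) ‹_› W
  haveI : LocallyOfFinitePresentation g₁ :=
    IsZariskiLocalAtTarget.restrict (P := @LocallyOfFinitePresentation) ‹_› W
  haveI : Surjective g₁ := ⟨fun y => by
    obtain ⟨z, hzy⟩ := hWsub y.2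
    refine ⟨⟨z, show π z ∈ W by rw [hzy]; exact y.2⟩, W.ι.injective ?_⟩
    rw [← Scheme.Hom.comp_apply, morphismRestrict_ι]
    exact hzy⟩
  let l : (π ⁻¹ᵁ W : Scheme.{u}) ⟶ pullback k g := (π ⁻¹ᵁ W).ι ≫ W₀.ι
  have hl : g₁ ≫ W.ι = l ≫ pullback.snd k g := (morphismRestrict_ι π W).trans (Category.assoc _ _ _).symm
  have hone : ∀ z : (π ⁻¹ᵁ W : Scheme.{u}), g₁ z = ⟨u, huW⟩ → l z = v () j := fun z hz => by
    refine huniq _ ((π ⁻¹ᵁ W).ι z).2 ?_
    rw [← Scheme.Hom.comp_apply, ← hl, Scheme.Hom.comp_apply, hz]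
    rfl
  obtain ⟨O, huO, ⟨e₁⟩⟩ := exists_const_nhd g₁ ⟨u, huW⟩
    (fun a b ha hb => l.injective ((hone a ha).trans (hone b hb).symm))
    (fun K _ a b hab hau => by
      rw [← cancel_mono l]
      have h1 : (a ≫ l) (IsLocalRing.closedPoint K) = v () j := hone _ hau
      have h2 : (b ≫ l) (IsLocalRing.closedPoint K) = v () j :=
        hone _ ((congrArg (fun m => m (IsLocalRing.closedPoint K)) hab.symm).trans hau)
      refine eq_of_purelyInseparable (pullback.snd k g) _ _ ?_ (h1.trans h2.symm) ?_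
      · refine ((Category.assoc _ _ _).trans ?_).trans (Category.assoc _ _ _).symm
        rw [← hl, reassoc_of% hab]
      · rw [h1]
        exact hpins)
    (Red.bc W.ι (Red.bc g X))
    ((Over.pullbackComp g₁ W.ι).symm.app (Red.bc g X) ≪≫ (Over.pullbackComp (g₁ ≫ W.ι) g).symm.app X ≪≫
      eqToIso (congrArg (fun m : (π ⁻¹ᵁ W : Scheme.{u}) ⟶ S => Red.bc m X)
        (show (g₁ ≫ W.ι) ≫ g = (l ≫ pullback.fst k g ≫ h) ≫ f by
          rw [hl]; simp only [l, k, Category.assoc, ← pullback.condition])) ≪≫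
      (Over.pullbackComp (l ≫ pullback.fst k g ≫ h) f).app X ≪≫ (Over.pullback _).mapIso e ≪≫
      (bc_const _ I).some)
  refine ⟨O, O.ι ≫ W.ι ≫ g, inferInstance, ⟨⟨⟨u, huW⟩, huO⟩, hgu⟩, I, ⟨?_⟩⟩
  exact (Over.pullbackComp O.ι (W.ι ≫ g)).app X ≪≫ (Over.pullback O.ι).mapIso ((Over.pullbackComp W.ι g).app X) ≪≫ e₁

end Groth.Agent.TwLocLib
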